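import Mathlib

set_option autoImplicit false
set_option linter.unusedSectionVars false
set_option linter.unusedVariables false
set_option linter.unusedSimpArgs false

/-!
# Diagonal and swap elements of `GL₂(F)` (helper9)
-/

namespace Cfsg.Agent.Lib.Helper9.Syl2

open Matrix

/-- elements of every order dividing the order of a finite cyclic group -/
theorem exists_orderOf_eq_of_dvd {C : Type*} [Group C] [Finite C] [IsCyclic C] {d : ℕ}
    (hd : d ∣ Nat.card C) : ∃ g : C, orderOf g = d := by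
  obtain ⟨g, hg⟩ := IsCyclic.exists_ofOrder_eq_natCard (α := C)
  obtain ⟨k, hk⟩ := hd
  have hpos : 0 < Nat.card C := Nat.card_pos
  have hk0 : k ≠ 0 := by rintro rfl; rw [mul_zero] at hk; omega
  have hd0 : d ≠ 0 := by rintro rfl; rw [zero_mul] at hk; omega
  refine ⟨g ^ k, ?_⟩
  rw [orderOf_pow_of_dvd hk0 (by rw [hg, hk]; exact dvd_mul_left k d), hg, hk,
    Nat.mul_div_cancel _ (Nat.pos_of_ne_zero hk0)]

variable {F : Type*} [Field F]

/-- diagonal matrices -/
def dg : Fˣ × Fˣ →* GL (Fin 2) F where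
  toFun p := ⟨!![(p.1 : F), 0; 0, (p.2 : F)], !![((p.1⁻¹ : Fˣ) : F), 0; 0, ((p.2⁻¹ : Fˣ) : F)],
    by simp [Matrix.mul_fin_two, Matrix.one_fin_two], by simp [Matrix.mul_fin_two, Matrix.one_fin_two]⟩
  map_one' := by
    apply Units.ext
    simp [Matrix.one_fin_two]
  map_mul' p p' := by
    apply Units.ext
    simp [Matrix.mul_fin_two]

theorem dg_coe (p : Fˣ × Fˣ) : ((dg p : GL (Fin 2) F) : Matrix (Fin 2) (Fin 2) F) =
    !![(p.1 : F), 0; 0, (p.2 : F)] := rfl

theorem dg_injective : Function.Injective (dg (F := F)) := by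
  intro p p' h
  have h1 := congrArg (fun g : GL (Fin 2) F => (g : Matrix (Fin 2) (Fin 2) F)) h
  simp only [dg_coe] at h1
  have h00 := congrFun (congrFun h1 0) 0
  have h11 := congrFun (congrFun h1 1) 1
  simp at h00 h11
  exact Prod.ext (Units.ext h00) (Units.ext h11)

/-- the swap matrix -/
def swapGL : GL (Fin 2) F :=
  ⟨!![0, 1; 1, 0], !![0, 1; 1, 0], by simp [Matrix.mul_fin_two, Matrix.one_fin_two],
    by simp [Matrix.mul_fin_two, Matrix.one_fin_two]⟩

theorem swapGL_coe : ((swapGL : GL (Fin 2) F) : Matrix (Fin 2) (Fin 2) F) = !![0, 1; 1, 0] := rfl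

theorem swapGL_mul_self : (swapGL : GL (Fin 2) F) * swapGL = 1 := by
  apply Units.ext
  simp [swapGL_coe, Matrix.mul_fin_two, Matrix.one_fin_two]

theorem swapGL_inv : (swapGL : GL (Fin 2) F)⁻¹ = swapGL :=
  inv_eq_of_mul_eq_one_left swapGL_mul_self

theorem swapGL_ne_one : (swapGL : GL (Fin 2) F) ≠ 1 := by
  intro h
  have h1 := congrArg (fun g : GL (Fin 2) F => (g : Matrix (Fin 2) (Fin 2) F) 0 0) h
  simp [swapGL_coe] at h1

theorem orderOf_swapGL : orderOf (swapGL : GL (Fin 2) F) = 2 :=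
  orderOf_eq_prime (by rw [pow_two]; exact swapGL_mul_self) swapGL_ne_one

theorem swap_conj_dg (a b : Fˣ) :
    (swapGL : GL (Fin 2) F) * dg (a, b) * swapGL⁻¹ = dg (b, a) := by
  rw [swapGL_inv]
  apply Units.ext
  simp [swapGL_coe, dg_coe, Matrix.mul_fin_two]

theorem orderOf_dg_left (a : Fˣ) : orderOf (dg (a, (1 : Fˣ))) = orderOf a := by
  rw [orderOf_injective dg dg_injective, Prod.orderOf]
  simp

theorem orderOf_dg_right (a : Fˣ) : orderOf (dg ((1 : Fˣ), a)) = orderOf a := by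
  rw [orderOf_injective dg dg_injective, Prod.orderOf]
  simp

theorem dg_comm (p p' : Fˣ × Fˣ) : dg p * dg p' = dg p' * dg p := by
  rw [← map_mul, ← map_mul, mul_comm]

theorem dg_disjoint (a b : Fˣ) :
    Subgroup.zpowers (dg (a, (1 : Fˣ))) ⊓ Subgroup.zpowers (dg ((1 : Fˣ), b)) = ⊥ := by
  rw [eq_bot_iff]
  intro w hw
  obtain ⟨h1, h2⟩ := Subgroup.mem_inf.mp hw
  obtain ⟨i, hi⟩ := Subgroup.mem_zpowers_iff.mp h1
  obtain ⟨j, hj⟩ := Subgroup.mem_zpowers_iff.mp h2
  rw [← map_zpow] at hi hj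
  have h3 := dg_injective (hi.trans hj.symm)
  have h4 : a ^ i = 1 := by
    have := congrArg Prod.fst h3
    simpa using this
  rw [Subgroup.mem_bot, ← hi]
  have : ((a, (1 : Fˣ)) : Fˣ × Fˣ) ^ i = 1 := by
    apply Prod.ext
    · simpa using h4
    · simp
  rw [this, map_one]

end Cfsg.Agent.Lib.Helper9.Syl2
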