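import Mathlib
import Cfsg.Prelude.Def_CaseTheorems
import Cfsg.Agent.Lib.Helper9.CentInv
import Cfsg.Agent.Lib.Helper9.Isolated

set_option autoImplicit false
set_option linter.unusedSectionVars false
set_option linter.unusedVariables false

/-!
# Recognizing wreathed / quasi-dihedral Sylow 2-subgroups from explicit elements (helper9)
-/

namespace Cfsg.Agent.Lib.Helper9.Syl2

open Cfsg.Agent.Lib.Helper9.CentInv Cfsg.Agent.Lib.Helper9

variable {G : Type*} [Group G] [Finite G]

/-- all Sylow 2-subgroups are wreathed if one is -/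
theorem isWreathed_of_sylow (Q P : Sylow 2 G) (h : Cfsg.IsWreathed (Q : Subgroup G)) :
    Cfsg.IsWreathed (P : Subgroup G) := by
  have : Fact (Nat.Prime 2) := ⟨Nat.prime_two⟩
  obtain ⟨g, rfl⟩ := MulAction.exists_smul_eq G Q P
  exact isWreathed_of_mulEquiv (sylowSmulEquiv Q g) h

theorem isQuasiDihedral_of_sylow (Q P : Sylow 2 G) (h : Cfsg.IsQuasiDihedral (Q : Subgroup G)) :
    Cfsg.IsQuasiDihedral (P : Subgroup G) := by
  have : Fact (Nat.Prime 2) := ⟨Nat.prime_two⟩
  obtain ⟨g, rfl⟩ := MulAction.exists_smul_eq G Q P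
  exact isQuasiDihedral_of_mulEquiv (sylowSmulEquiv Q g) h

omit [Finite G] in
theorem isPGroup_zpowers {x : G} {k : ℕ} (hx : orderOf x = 2 ^ k) :
    IsPGroup 2 (Subgroup.zpowers x) := by
  have : Fact (Nat.Prime 2) := ⟨Nat.prime_two⟩
  apply IsPGroup.of_card (n := k)
  rw [Nat.card_zpowers, hx]

/-- **Wreathed Sylow 2-subgroups from elements.** -/
theorem isWreathed_sylow (P : Sylow 2 G) (n : ℕ) (hn : 2 ≤ n)
    (hcard : (Nat.card G).factorization 2 = 2 * n + 1) (x y z : G) (hx : orderOf x = 2 ^ n)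
    (hxy : x * y = y * x) (hdisj : Subgroup.zpowers x ⊓ Subgroup.zpowers y = ⊥)
    (hz : orderOf z = 2) (hrel : z * x * z⁻¹ = y) : Cfsg.IsWreathed (P : Subgroup G) := by
  have : Fact (Nat.Prime 2) := ⟨Nat.prime_two⟩
  have hy : orderOf y = 2 ^ n := by rw [← hrel, orderOf_conj_eq, hx]
  have hzz : z * z = 1 := by
    have := pow_orderOf_eq_one z
    rwa [hz, pow_two] at this
  have hzinv : z⁻¹ = z := inv_eq_of_mul_eq_one_left hzz
  have hrel' : z * y * z⁻¹ = x := by
    rw [← hrel, hzinv]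
    calc z * (z * x * z) * z = (z * z) * x * (z * z) := by group
      _ = x := by rw [hzz]; group
  -- the abelian subgroup
  have hN : IsPGroup 2 (Subgroup.zpowers x ⊔ Subgroup.zpowers y : Subgroup G) := by
    apply IsPGroup.to_sup_of_normal_right' (isPGroup_zpowers hx) (isPGroup_zpowers hy)
    rw [Subgroup.zpowers_le]
    rw [Subgroup.mem_normalizer_iff]
    intro h
    constructor
    · intro hh
      obtain ⟨k, rfl⟩ := Subgroup.mem_zpowers_iff.mp hh
      have : x * y ^ k * x⁻¹ = y ^ k := by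
        have hc : Commute x (y ^ k) := (Commute.zpow_right hxy k)
        rw [hc.eq]; group
      rw [this]; exact hh
    · intro hh
      obtain ⟨k, hk⟩ := Subgroup.mem_zpowers_iff.mp hh
      have : h = y ^ k := by
        have hc : Commute x (y ^ k) := (Commute.zpow_right hxy k)
        have h1 : h = x⁻¹ * (x * h * x⁻¹) * x := by group
        rw [h1, ← hk, mul_assoc, ← hc.eq]; group
      rw [this]; exact Subgroup.zpow_mem_zpowers y k
  have hW : IsPGroup 2 ((Subgroup.zpowers x ⊔ Subgroup.zpowers y) ⊔ Subgroup.zpowers z :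
      Subgroup G) := by
    have hzN : Subgroup.zpowers z ≤
        Subgroup.normalizer ((Subgroup.zpowers x ⊔ Subgroup.zpowers y : Subgroup G) : Set G) := by
      rw [Subgroup.zpowers_le]
      have key : ∀ h ∈ (Subgroup.zpowers x ⊔ Subgroup.zpowers y : Subgroup G),
          z * h * z⁻¹ ∈ (Subgroup.zpowers x ⊔ Subgroup.zpowers y : Subgroup G) := by
        intro h hh
        have hmap : (Subgroup.zpowers x ⊔ Subgroup.zpowers y : Subgroup G).map
            (MulAut.conj z).toMonoidHom ≤ Subgroup.zpowers x ⊔ Subgroup.zpowers y := by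
          rw [Subgroup.map_sup, MonoidHom.map_zpowers, MonoidHom.map_zpowers]
          simp only [MulEquiv.coe_toMonoidHom, MulAut.conj_apply]
          rw [hrel, hrel', sup_comm]
        exact hmap ⟨h, hh, by simp [MulAut.conj_apply]⟩
      rw [Subgroup.mem_normalizer_iff]
      intro h
      refine ⟨key h, fun hh => ?_⟩
      have := key _ hh
      rw [hzinv] at this
      have e : z * (z * h * z) * z = h := by
        calc z * (z * h * z) * z = (z * z) * h * (z * z) := by group
          _ = h := by rw [hzz]; group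
      rw [hzinv] at hh
      rwa [e] at this
    have hz2 : IsPGroup 2 (Subgroup.zpowers z) := isPGroup_zpowers (k := 1) (by rw [hz, pow_one])
    rw [sup_comm]
    exact IsPGroup.to_sup_of_normal_right' hz2 hN hzN
  obtain ⟨Q, hQ⟩ := hW.exists_le_sylow
  apply isWreathed_of_sylow Q P
  have hxQ : x ∈ (Q : Subgroup G) :=
    hQ (Subgroup.mem_sup_left (Subgroup.mem_sup_left (Subgroup.mem_zpowers x)))
  have hyQ : y ∈ (Q : Subgroup G) :=
    hQ (Subgroup.mem_sup_left (Subgroup.mem_sup_right (Subgroup.mem_zpowers y)))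
  have hzQ : z ∈ (Q : Subgroup G) := hQ (Subgroup.mem_sup_right (Subgroup.mem_zpowers z))
  refine ⟨n, hn, ?_, ⟨x, hxQ⟩, ⟨y, hyQ⟩, ⟨z, hzQ⟩, ?_, ?_, ?_, ?_, ?_⟩
  · rw [Sylow.card_eq_multiplicity, hcard]
  · rw [Subgroup.orderOf_mk, hx]
  · exact Subtype.ext hxy
  · rw [eq_bot_iff]
    intro w hw
    obtain ⟨h1, h2⟩ := Subgroup.mem_inf.mp hw
    obtain ⟨i, hi⟩ := Subgroup.mem_zpowers_iff.mp h1
    obtain ⟨j, hj⟩ := Subgroup.mem_zpowers_iff.mp h2
    have hi' : x ^ i = w.1 := by
      have := congrArg Subtype.val hi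
      simpa using this
    have hj' : y ^ j = w.1 := by
      have := congrArg Subtype.val hj
      simpa using this
    have hmem : w.1 ∈ Subgroup.zpowers x ⊓ Subgroup.zpowers y :=
      Subgroup.mem_inf.mpr ⟨Subgroup.mem_zpowers_iff.mpr ⟨i, hi'⟩,
        Subgroup.mem_zpowers_iff.mpr ⟨j, hj'⟩⟩
    rw [hdisj, Subgroup.mem_bot] at hmem
    rw [Subgroup.mem_bot]
    exact Subtype.ext hmem
  · rw [Subgroup.orderOf_mk, hz]
  · exact Subtype.ext hrel

/-- **Quasi-dihedral Sylow 2-subgroups from elements.** -/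
theorem isQuasiDihedral_sylow (P : Sylow 2 G) (n : ℕ) (hn : 3 ≤ n)
    (hcard : (Nat.card G).factorization 2 = n + 1) (x y : G) (hx : orderOf x = 2 ^ n)
    (hy : orderOf y = 2) (hrel : y * x * y⁻¹ = x ^ (2 ^ (n - 1) - 1)) :
    Cfsg.IsQuasiDihedral (P : Subgroup G) := by
  have : Fact (Nat.Prime 2) := ⟨Nat.prime_two⟩
  have hyy : y * y = 1 := by
    have := pow_orderOf_eq_one y
    rwa [hy, pow_two] at this
  have hyinv : y⁻¹ = y := inv_eq_of_mul_eq_one_left hyy
  have hW : IsPGroup 2 (Subgroup.zpowers y ⊔ Subgroup.zpowers x : Subgroup G) := by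
    have hy2 : IsPGroup 2 (Subgroup.zpowers y) := isPGroup_zpowers (k := 1) (by rw [hy, pow_one])
    apply IsPGroup.to_sup_of_normal_right' hy2 (isPGroup_zpowers hx)
    rw [Subgroup.zpowers_le]
    have key : ∀ h ∈ Subgroup.zpowers x, y * h * y⁻¹ ∈ Subgroup.zpowers x := by
      intro h hh
      obtain ⟨k, rfl⟩ := Subgroup.mem_zpowers_iff.mp hh
      have : y * x ^ k * y⁻¹ = (y * x * y⁻¹) ^ k := by
        rw [conj_zpow]
      rw [this, hrel]
      exact Subgroup.zpow_mem _ (Subgroup.pow_mem _ (Subgroup.mem_zpowers x) _) k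
    rw [Subgroup.mem_normalizer_iff]
    intro h
    refine ⟨key h, fun hh => ?_⟩
    have := key _ hh
    rw [hyinv] at this
    have e : y * (y * h * y) * y = h := by
      calc y * (y * h * y) * y = (y * y) * h * (y * y) := by group
        _ = h := by rw [hyy]; group
    rw [hyinv] at hh
    rwa [e] at this
  obtain ⟨Q, hQ⟩ := hW.exists_le_sylow
  apply isQuasiDihedral_of_sylow Q P
  have hxQ : x ∈ (Q : Subgroup G) := hQ (Subgroup.mem_sup_right (Subgroup.mem_zpowers x))
  have hyQ : y ∈ (Q : Subgroup G) := hQ (Subgroup.mem_sup_left (Subgroup.mem_zpowers y))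
  refine ⟨n, hn, ?_, ⟨x, hxQ⟩, ⟨y, hyQ⟩, ?_, ?_, ?_⟩
  · rw [Sylow.card_eq_multiplicity, hcard]
  · rw [Subgroup.orderOf_mk, hx]
  · rw [Subgroup.orderOf_mk, hy]
  · exact Subtype.ext hrel

end Cfsg.Agent.Lib.Helper9.Syl2
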