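import Mathlib

set_option autoImplicit false

/-!
# 2-adic valuations of `q ± 1` (helper9)
-/

namespace Cfsg.Agent.Lib.Helper9.Syl2

theorem fact2_eq_zero_of_odd {n : ℕ} (h : n % 2 = 1) : n.factorization 2 = 0 := by
  apply Nat.factorization_eq_zero_of_not_dvd
  omega

theorem fact2_eq_one_of_mod4 {n : ℕ} (h : n % 4 = 2) : n.factorization 2 = 1 := by
  have hn : n ≠ 0 := by omega
  have h1 : 1 ≤ n.factorization 2 :=
    (Nat.prime_two.pow_dvd_iff_le_factorization hn).mp (by rw [pow_one]; omega)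
  have h2 : ¬ 2 ≤ n.factorization 2 := by
    intro h2
    have := (Nat.prime_two.pow_dvd_iff_le_factorization hn).mpr h2
    omega
  omega

theorem two_le_fact2_of_mod4 {n : ℕ} (hn : n ≠ 0) (h : n % 4 = 0) : 2 ≤ n.factorization 2 :=
  (Nat.prime_two.pow_dvd_iff_le_factorization hn).mp (by norm_num; omega)

/-- `n = 2^v * r` with `r` odd -/
theorem exists_odd_part {n : ℕ} (hn : n ≠ 0) :
    ∃ j : ℕ, n = 2 ^ n.factorization 2 * (2 * j + 1) := by
  have h1 : 2 ^ n.factorization 2 ∣ n := Nat.ordProj_dvd n 2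
  obtain ⟨r, hr⟩ := h1
  have h2 : ¬ 2 ∣ r := by
    intro h2
    obtain ⟨s, hs⟩ := h2
    have : 2 ^ (n.factorization 2 + 1) ∣ n := ⟨s, by
      calc n = 2 ^ n.factorization 2 * r := hr
        _ = 2 ^ (n.factorization 2 + 1) * s := by rw [hs, pow_succ]; ring⟩
    have := (Nat.prime_two.pow_dvd_iff_le_factorization hn).mp this
    omega
  refine ⟨r / 2, ?_⟩
  have : 2 * (r / 2) + 1 = r := by omega
  rw [this]; exact hr

/-- the 2-part of `|GL₂(q)|` -/
theorem fact2_card_GL2 {q : ℕ} (hq : q % 2 = 1) (hq1 : 1 < q) :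
    ((q ^ 2 - 1) * (q ^ 2 - q)).factorization 2 =
      2 * (q - 1).factorization 2 + (q + 1).factorization 2 := by
  obtain ⟨r, rfl⟩ : ∃ r, q = r + 1 := ⟨q - 1, by omega⟩
  have e1 : (r + 1) ^ 2 - 1 = r * (r + 2) := by
    have : (r + 1) ^ 2 = r * (r + 2) + 1 := by ring
    omega
  have e2 : (r + 1) ^ 2 - (r + 1) = (r + 1) * r := by
    have : (r + 1) ^ 2 = (r + 1) * r + (r + 1) := by ring
    omega
  have hr : r ≠ 0 := by omega
  rw [e1, e2, Nat.add_sub_cancel]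
  rw [Nat.factorization_mul (Nat.mul_ne_zero hr (by omega)) (Nat.mul_ne_zero (by omega) hr),
    Nat.factorization_mul hr (by omega), Nat.factorization_mul (by omega) hr]
  simp only [Finsupp.coe_add, Pi.add_apply]
  rw [fact2_eq_zero_of_odd hq]
  have : r + 1 + 1 = r + 2 := rfl
  rw [this]
  ring

/-- the 2-part of `|GU₂(q)|` -/
theorem fact2_card_GU2 {q : ℕ} (hq : q % 2 = 1) (hq1 : 1 < q) :
    (q * ((q + 1) * (q ^ 2 - 1))).factorization 2 =
      2 * (q + 1).factorization 2 + (q - 1).factorization 2 := by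
  obtain ⟨r, rfl⟩ : ∃ r, q = r + 1 := ⟨q - 1, by omega⟩
  have e1 : (r + 1) ^ 2 - 1 = r * (r + 2) := by
    have : (r + 1) ^ 2 = r * (r + 2) + 1 := by ring
    omega
  have hr : r ≠ 0 := by omega
  rw [e1, Nat.add_sub_cancel]
  have : r + 1 + 1 = r + 2 := rfl
  rw [this]
  rw [Nat.factorization_mul (by omega) (Nat.mul_ne_zero (by omega) (Nat.mul_ne_zero hr (by omega))),
    Nat.factorization_mul (by omega) (Nat.mul_ne_zero hr (by omega)),
    Nat.factorization_mul hr (by omega)]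
  simp only [Finsupp.coe_add, Pi.add_apply]
  rw [fact2_eq_zero_of_odd hq]
  ring

/-- `q ≡ 3 (4)`, `m = v₂(q+1)`: `2^(m+1) ∣ q + 1 - 2^m` -/
theorem dvd_of_mod4_eq_3 {q : ℕ} (hq : q % 4 = 3) :
    ∃ j : ℕ, q + 1 = 2 ^ (q + 1).factorization 2 + 2 ^ ((q + 1).factorization 2 + 1) * j := by
  obtain ⟨j, hj⟩ := exists_odd_part (n := q + 1) (by omega)
  refine ⟨j, ?_⟩
  nth_rewrite 1 [hj]
  rw [pow_succ]; ring

/-- `q ≡ 1 (4)`, `m = v₂(q-1)`: `q = 1 + 2^m + 2^(m+1) j` -/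
theorem dvd_of_mod4_eq_1 {q : ℕ} (hq : q % 4 = 1) (hq1 : 1 < q) :
    ∃ j : ℕ, q = 1 + 2 ^ (q - 1).factorization 2 + 2 ^ ((q - 1).factorization 2 + 1) * j := by
  obtain ⟨j, hj⟩ := exists_odd_part (n := q - 1) (by omega)
  refine ⟨j, ?_⟩
  have h1 : q = 1 + (q - 1) := by omega
  nth_rewrite 1 [h1]
  nth_rewrite 1 [hj]
  rw [pow_succ]; ring

end Cfsg.Agent.Lib.Helper9.Syl2
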