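import Mathlib
import Cfsg.Prelude.Def_CaseTheorems
import Cfsg.Agent.Lib.Helper9.Syl2.Generic
import Cfsg.Agent.Lib.Helper9.Syl2.Val
import Cfsg.Agent.Lib.Helper9.Syl2.GL2

set_option autoImplicit false
set_option linter.unusedSectionVars false
set_option linter.unusedVariables false

/-!
# Sylow 2-subgroups of `GL₂(q)`, `q ≡ 1 (mod 4)`: wreathed (helper9)
-/

namespace Cfsg.Agent.Lib.Helper9.Syl2

open Matrix

variable {F : Type*} [Field F] [Fintype F]

theorem card_GL2 : Nat.card (GL (Fin 2) F) =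
    (Fintype.card F ^ 2 - 1) * (Fintype.card F ^ 2 - Fintype.card F) := by
  rw [Matrix.card_GL_field, Fin.prod_univ_two]
  simp

theorem card_units_eq : Nat.card Fˣ = Fintype.card F - 1 := by
  classical
  rw [Nat.card_eq_fintype_card, Fintype.card_units]

theorem gl2_wreathed (h : Fintype.card F % 4 = 1) (P : Sylow 2 (GL (Fin 2) F)) :
    Cfsg.IsWreathed (P : Subgroup (GL (Fin 2) F)) := by
  set q := Fintype.card F with hq
  have hq1 : 1 < q := Fintype.one_lt_card
  set n := (q - 1).factorization 2 with hn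
  have hn2 : 2 ≤ n := two_le_fact2_of_mod4 (by omega) (by omega)
  have hcard : (Nat.card (GL (Fin 2) F)).factorization 2 = 2 * n + 1 := by
    rw [card_GL2, fact2_card_GL2 (by omega) hq1, fact2_eq_one_of_mod4 (n := q + 1) (by omega)]
  have hdvd : 2 ^ n ∣ Nat.card Fˣ := by
    rw [card_units_eq]
    exact Nat.ordProj_dvd (q - 1) 2
  obtain ⟨ζ, hζ⟩ := exists_orderOf_eq_of_dvd hdvd
  exact isWreathed_sylow P n hn2 hcard (dg (ζ, 1)) (dg (1, ζ)) swapGL
    (by rw [orderOf_dg_left, hζ]) (dg_comm _ _) (dg_disjoint ζ ζ) orderOf_swapGL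
    (swap_conj_dg ζ 1)

end Cfsg.Agent.Lib.Helper9.Syl2
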