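import Mathlib
import Cfsg.Prelude.Def_CaseTheorems
import Cfsg.Agent.Lib.Helper9.Syl2.GL2Wr
import Cfsg.Agent.Lib.Helper6.Unitary

set_option autoImplicit false
set_option linter.unusedSectionVars false
set_option linter.unusedVariables false
set_option linter.unusedSimpArgs false
set_option linter.style.haveILetI false

/-!
# Sylow 2-subgroups of `GL₂(q)`, `q ≡ 3 (mod 4)`: quasi-dihedral (helper9)
-/

namespace Cfsg.Agent.Lib.Helper9.Syl2

open Matrix QuadraticAlgebra

variable {F : Type*} [Field F]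

/-- the regular representation of `F(i)` -/
def Lmat : QuadraticAlgebra F (-1) 0 →* Matrix (Fin 2) (Fin 2) F where
  toFun k := !![k.re, -k.im; k.im, k.re]
  map_one' := by
    ext i j
    fin_cases i <;> fin_cases j <;> simp [Matrix.one_fin_two]
  map_mul' k k' := by
    ext i j
    fin_cases i <;> fin_cases j <;> simp [Matrix.mul_fin_two] <;> ring

theorem Lmat_apply (k : QuadraticAlgebra F (-1) 0) : Lmat k = !![k.re, -k.im; k.im, k.re] := rfl

theorem Lmat_injective : Function.Injective (Lmat (F := F)) := by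
  intro k k' h
  rw [Lmat_apply, Lmat_apply] at h
  have h00 := congrFun (congrFun h 0) 0
  have h10 := congrFun (congrFun h 1) 0
  simp at h00 h10
  exact QuadraticAlgebra.ext h00 h10

/-- conjugation by `diag(1,-1)` is the star -/
theorem dg_conj_Lmat (k : QuadraticAlgebra F (-1) 0) :
    (!![1, 0; 0, -1] : Matrix (Fin 2) (Fin 2) F) * Lmat k * !![1, 0; 0, -1] = Lmat (star k) := by
  rw [Lmat_apply, Lmat_apply]
  ext i j
  fin_cases i <;> fin_cases j <;> simp [Matrix.mul_fin_two]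

section Fin

variable [Fintype F]

theorem fact_of_mod4 (h : Fintype.card F % 4 = 3) :
    Fact (∀ r : F, r ^ 2 ≠ (-1 : F) + 0 * r) := by
  refine ⟨fun r hr => ?_⟩
  have h1 : IsSquare (-1 : F) := ⟨r, by rw [← pow_two, hr]; ring⟩
  rw [FiniteField.isSquare_neg_one_iff] at h1
  exact h1 h

/-- `F(i)` is finite -/
@[instance_reducible] noncomputable def fintypeK : Fintype (QuadraticAlgebra F (-1) 0) :=
  Fintype.ofEquiv (F × F) (QuadraticAlgebra.equivProd (-1 : F) 0).symm

theorem card_K : @Fintype.card (QuadraticAlgebra F (-1) 0) fintypeK = Fintype.card F ^ 2 := by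
  rw [@Fintype.card_congr _ _ fintypeK _ (QuadraticAlgebra.equivProd (-1 : F) 0), Fintype.card_prod,
    pow_two]

/-- the star is the Frobenius -/
theorem star_eq_pow (h : Fintype.card F % 4 = 3) (k : QuadraticAlgebra F (-1) 0) :
    star k = k ^ Fintype.card F := by
  haveI := fact_of_mod4 h
  letI := fintypeK (F := F)
  set q := Fintype.card F with hq
  have hK : Fintype.card (QuadraticAlgebra F (-1) 0) = q ^ 2 := card_K
  have h1 : k = algebraMap F _ k.re + algebraMap F _ k.im * ω := by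
    ext <;> simp
  have hω2 : (ω : QuadraticAlgebra F (-1) 0) * ω = -1 := by
    ext <;> simp
  have hωq : (ω : QuadraticAlgebra F (-1) 0) ^ q = -ω := by
    obtain ⟨r, hr⟩ : ∃ r, q = 2 * (2 * r + 1) + 1 := ⟨q / 4, by omega⟩
    rw [hr, pow_succ, pow_mul, pow_two, hω2, pow_succ, pow_mul]
    simp
  have h2 : ∀ a : F, (algebraMap F (QuadraticAlgebra F (-1) 0) a) ^ q = algebraMap F _ a := by
    intro a
    rw [← map_pow, hq, FiniteField.pow_card]
  have h3 : k ^ q = Cfsg.Agent.Lib.Helper6.conjQ hK k := rfl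
  rw [h3]
  nth_rewrite 2 [h1]
  rw [map_add, map_mul, Cfsg.Agent.Lib.Helper6.conjQ_apply, Cfsg.Agent.Lib.Helper6.conjQ_apply,
    Cfsg.Agent.Lib.Helper6.conjQ_apply, h2, h2, hωq]
  ext <;> simp

theorem gl2_quasiDihedral (h : Fintype.card F % 4 = 3) (P : Sylow 2 (GL (Fin 2) F)) :
    Cfsg.IsQuasiDihedral (P : Subgroup (GL (Fin 2) F)) := by
  classical
  haveI := fact_of_mod4 h
  letI := fintypeK (F := F)
  set q := Fintype.card F with hq
  have hq1 : 1 < q := Fintype.one_lt_card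
  have hK : Fintype.card (QuadraticAlgebra F (-1) 0) = q ^ 2 := card_K
  set m := (q + 1).factorization 2 with hm
  have hm2 : 2 ≤ m := two_le_fact2_of_mod4 (by omega) (by omega)
  have hcard : (Nat.card (GL (Fin 2) F)).factorization 2 = (m + 1) + 1 := by
    rw [card_GL2, fact2_card_GL2 (by omega) hq1, fact2_eq_one_of_mod4 (n := q - 1) (by omega)]
    omega
  -- an element of order 2^(m+1) in F(i)ˣ
  have hdvd : 2 ^ (m + 1) ∣ Nat.card (QuadraticAlgebra F (-1) 0)ˣ := by
    rw [Nat.card_eq_fintype_card, Fintype.card_units, hK]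
    obtain ⟨r, hr⟩ : ∃ r, q = r + 1 := ⟨q - 1, by omega⟩
    have e1 : (r + 1) ^ 2 - 1 = (r + 2) * r := by
      have : (r + 1) ^ 2 = (r + 2) * r + 1 := by ring
      omega
    have h1 : 2 ^ m ∣ r + 2 := by
      have := Nat.ordProj_dvd (q + 1) 2
      rw [← hm, hr] at this
      exact this
    have h2 : 2 ∣ r := by omega
    rw [hr, e1, pow_succ]
    exact Nat.mul_dvd_mul h1 h2
  obtain ⟨ξ, hξ⟩ := exists_orderOf_eq_of_dvd hdvd
  let φ : (QuadraticAlgebra F (-1) 0)ˣ →* GL (Fin 2) F := Units.map Lmat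
  have hφ : Function.Injective φ := Units.map_injective Lmat_injective
  have hφc : ∀ k : (QuadraticAlgebra F (-1) 0)ˣ,
      ((φ k : GL (Fin 2) F) : Matrix (Fin 2) (Fin 2) F) = Lmat (k : QuadraticAlgebra F (-1) 0) :=
    fun k => rfl
  have hx : orderOf (φ ξ) = 2 ^ (m + 1) := by rw [orderOf_injective φ hφ, hξ]
  have h2F : (2 : F) ≠ 0 := by
    intro h2
    have h3 : (-1 : F) = 1 := by
      have : (1 : F) + 1 = 0 := by rw [one_add_one_eq_two]; exact h2
      exact (eq_neg_of_add_eq_zero_left this).symm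
    have : IsSquare (-1 : F) := ⟨1, by rw [h3]; ring⟩
    rw [FiniteField.isSquare_neg_one_iff] at this
    exact this h
  have hy1 : dg ((1 : Fˣ), (-1 : Fˣ)) ≠ 1 := by
    intro h1
    have h3 := dg_injective (h1.trans (map_one dg).symm)
    have h4 : ((-1 : Fˣ) : F) = 1 := by
      have := congrArg (fun p : Fˣ × Fˣ => ((p.2 : Fˣ) : F)) h3
      simpa using this
    apply h2F
    have : (-1 : F) = 1 := by simpa using h4
    calc (2 : F) = 1 - (-1) := by ring
      _ = 0 := by rw [this]; ring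
  have hyy : dg ((1 : Fˣ), (-1 : Fˣ)) * dg ((1 : Fˣ), (-1 : Fˣ)) = 1 := by
    rw [← map_mul]
    have : (((1 : Fˣ), (-1 : Fˣ)) : Fˣ × Fˣ) * ((1 : Fˣ), (-1 : Fˣ)) = 1 := by
      apply Prod.ext <;> simp
    rw [this, map_one]
  have hy : orderOf (dg ((1 : Fˣ), (-1 : Fˣ))) = 2 :=
    orderOf_eq_prime (by rw [pow_two]; exact hyy) hy1
  have hyinv : (dg ((1 : Fˣ), (-1 : Fˣ)))⁻¹ = dg ((1 : Fˣ), (-1 : Fˣ)) :=
    inv_eq_of_mul_eq_one_left hyy
  have hrel1 : dg ((1 : Fˣ), (-1 : Fˣ)) * φ ξ * (dg ((1 : Fˣ), (-1 : Fˣ)))⁻¹ = (φ ξ) ^ q := by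
    rw [hyinv]
    apply Units.ext
    rw [Units.val_mul, Units.val_mul, Units.val_pow_eq_pow_val, hφc, dg_coe]
    have := dg_conj_Lmat (ξ : QuadraticAlgebra F (-1) 0)
    simp only [Units.val_one, Units.val_neg]
    rw [this, star_eq_pow h, map_pow]
  obtain ⟨j, hj⟩ := dvd_of_mod4_eq_3 (q := q) (by omega)
  rw [← hm] at hj
  have hpos : 1 ≤ 2 ^ m := Nat.one_le_two_pow
  have hqj : q = (2 ^ m - 1) + 2 ^ (m + 1) * j := by omega
  have hrel : dg ((1 : Fˣ), (-1 : Fˣ)) * φ ξ * (dg ((1 : Fˣ), (-1 : Fˣ)))⁻¹ =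
      (φ ξ) ^ (2 ^ (m + 1 - 1) - 1) := by
    rw [hrel1, Nat.add_sub_cancel]
    nth_rewrite 1 [hqj]
    rw [pow_add, pow_mul, ← hx, pow_orderOf_eq_one, one_pow, mul_one]
  exact isQuasiDihedral_sylow P (m + 1) (by omega) hcard (φ ξ) (dg ((1 : Fˣ), (-1 : Fˣ))) hx hy hrel

end Fin

end Cfsg.Agent.Lib.Helper9.Syl2
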