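import Mathlib
import Cfsg.Prelude.Def_CaseTheorems
import Cfsg.Prelude.Def_Classical
import Cfsg.Prelude.Def_LieClassical
import Cfsg.Agent.Lib.Helper9.Syl2.GL2Wr
import Cfsg.Agent.Lib.Helper6.Unitary
import Cfsg.Agent.Lib.Helper6.UnitaryCount
import Cfsg.Agent.Lib.Helper16.FieldAutGU
import Cfsg.Agent.Lib.Helper16.UnitaryCount3

set_option autoImplicit false
set_option linter.unusedSectionVars false
set_option linter.unusedVariables false
set_option linter.unusedSimpArgs false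
set_option linter.style.haveILetI false

/-!
# Sylow 2-subgroups of `GU₂(q)` (helper9)
-/

namespace Cfsg.Agent.Lib.Helper9.Syl2

open Matrix Cfsg Cfsg.Agent.Lib.Helper6

variable {F : Type*} [Field F] [Fintype F] {q : ℕ}

/-- the unitary group, as in the statement -/
abbrev GU2 (F : Type*) [Field F] (q : ℕ) : Subgroup (GL (Fin 2) F) :=
  Cfsg.preserving (Units.coeHom (Matrix (Fin 2) (Fin 2) F)) (Cfsg.hermForm 2 F q)

theorem mem_GU2_iff (hF : Fintype.card F = q ^ 2) (g : GL (Fin 2) F) :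
    g ∈ GU2 F q ↔ (g : Matrix (Fin 2) (Fin 2) F)ᵀ *
      (g : Matrix (Fin 2) (Fin 2) F).map (conjQ hF) = 1 := by
  rw [← Cfsg.Agent.Lib.Helper16.pres_iff hF]
  rfl

theorem card_GU2 (hF : Fintype.card F = q ^ 2) :
    Nat.card (GU2 F q) = q * ((q + 1) * (q ^ 2 - 1)) := by
  have h := Cfsg.Agent.Lib.Helper16.card_GU hF 2
  have h2 : Nat.card (GU2 F q) = Nat.card (Cfsg.GU 2 F q) := rfl
  rw [h2, h]
  simp [Finset.prod_range_succ]

/-- disjointness of cyclic subgroups passes to a subgroup -/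
theorem zpowers_disjoint_of_coe {G : Type*} [Group G] (H : Subgroup G) (x y : H)
    (h : Subgroup.zpowers (x : G) ⊓ Subgroup.zpowers (y : G) = ⊥) :
    Subgroup.zpowers x ⊓ Subgroup.zpowers y = ⊥ := by
  rw [eq_bot_iff]
  intro w hw
  obtain ⟨h1, h2⟩ := Subgroup.mem_inf.mp hw
  obtain ⟨i, hi⟩ := Subgroup.mem_zpowers_iff.mp h1
  obtain ⟨j, hj⟩ := Subgroup.mem_zpowers_iff.mp h2
  have hi' : (x : G) ^ i = w.1 := by rw [← hi]; simp
  have hj' : (y : G) ^ j = w.1 := by rw [← hj]; simp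
  have hmem : w.1 ∈ Subgroup.zpowers (x : G) ⊓ Subgroup.zpowers (y : G) :=
    Subgroup.mem_inf.mpr ⟨Subgroup.mem_zpowers_iff.mpr ⟨i, hi'⟩,
      Subgroup.mem_zpowers_iff.mpr ⟨j, hj'⟩⟩
  rw [h, Subgroup.mem_bot] at hmem
  rw [Subgroup.mem_bot]
  exact Subtype.ext hmem

theorem herm_check (hF : Fintype.card F = q ^ 2) (a b c d : F) :
    (!![a, b; c, d]ᵀ * (!![a, b; c, d]).map (conjQ hF)) =
      !![a * a ^ q + c * c ^ q, a * b ^ q + c * d ^ q;
         b * a ^ q + d * c ^ q, b * b ^ q + d * d ^ q] := by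
  ext i j
  fin_cases i <;> fin_cases j <;> simp [Matrix.mul_apply, Fin.sum_univ_two, conjQ_apply]

theorem dg_mem_GU2 (hF : Fintype.card F = q ^ 2) (a b : Fˣ) (ha : (a : F) ^ (q + 1) = 1)
    (hb : (b : F) ^ (q + 1) = 1) : dg (a, b) ∈ GU2 F q := by
  have hq : 0 < q := by have := two_le_q hF; omega
  rw [mem_GU2_iff hF, dg_coe, herm_check, Matrix.one_fin_two]
  rw [zero_pow hq.ne', ← pow_succ', ← pow_succ', ha, hb]
  simp

theorem swapGL_mem_GU2 (hF : Fintype.card F = q ^ 2) : swapGL ∈ GU2 F q := by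
  have hq : 0 < q := by have := two_le_q hF; omega
  rw [mem_GU2_iff hF, swapGL_coe, herm_check, Matrix.one_fin_two]
  rw [zero_pow hq.ne', one_pow]
  simp

theorem card_units_sq (hF : Fintype.card F = q ^ 2) : Nat.card Fˣ = q ^ 2 - 1 := by
  rw [card_units_eq, hF]

theorem q_gt_one (hF : Fintype.card F = q ^ 2) : 1 < q := two_le_q hF

/-- **`GU₂(q)`, `q ≡ 3 (mod 4)`: wreathed.** -/
theorem gu2_wreathed (hF : Fintype.card F = q ^ 2) (h : q % 4 = 3) (P : Sylow 2 (GU2 F q)) :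
    Cfsg.IsWreathed (P : Subgroup (GU2 F q)) := by
  have hq1 := q_gt_one hF
  set n := (q + 1).factorization 2 with hn
  have hn2 : 2 ≤ n := two_le_fact2_of_mod4 (by omega) (by omega)
  have hcard : (Nat.card (GU2 F q)).factorization 2 = 2 * n + 1 := by
    rw [card_GU2 hF, fact2_card_GU2 (by omega) hq1, fact2_eq_one_of_mod4 (n := q - 1) (by omega)]
  have hdvd1 : 2 ^ n ∣ q + 1 := Nat.ordProj_dvd (q + 1) 2
  have hdvd : 2 ^ n ∣ Nat.card Fˣ := by
    rw [card_units_sq hF]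
    obtain ⟨r, hr⟩ : ∃ r, q = r + 1 := ⟨q - 1, by omega⟩
    have e1 : (r + 1) ^ 2 - 1 = (r + 2) * r := by
      have : (r + 1) ^ 2 = (r + 2) * r + 1 := by ring
      omega
    rw [hr, e1]
    rw [hr] at hdvd1
    exact Dvd.dvd.mul_right hdvd1 r
  obtain ⟨ζ, hζ⟩ := exists_orderOf_eq_of_dvd hdvd
  have hζq : (ζ : F) ^ (q + 1) = 1 := by
    have : ζ ^ (q + 1) = 1 := orderOf_dvd_iff_pow_eq_one.mp (by rw [hζ]; exact hdvd1)
    have h2 := congrArg (fun u : Fˣ => (u : F)) this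
    simpa using h2
  have h1 : ((1 : Fˣ) : F) ^ (q + 1) = 1 := by simp
  refine isWreathed_sylow P n hn2 hcard ⟨dg (ζ, 1), dg_mem_GU2 hF ζ 1 hζq h1⟩
    ⟨dg (1, ζ), dg_mem_GU2 hF 1 ζ h1 hζq⟩ ⟨swapGL, swapGL_mem_GU2 hF⟩ ?_ ?_ ?_ ?_ ?_
  · rw [Subgroup.orderOf_mk, orderOf_dg_left, hζ]
  · exact Subtype.ext (dg_comm _ _)
  · exact zpowers_disjoint_of_coe _ _ _ (dg_disjoint ζ ζ)
  · rw [Subgroup.orderOf_mk, orderOf_swapGL]
  · exact Subtype.ext (swap_conj_dg ζ 1)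

end Cfsg.Agent.Lib.Helper9.Syl2
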