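import Mathlib
import Cfsg.Prelude.Def_CaseTheorems
import Cfsg.Agent.Lib.Helper9.Syl2.GU2
import Cfsg.Agent.Lib.Helper9.Isolated

set_option autoImplicit false
set_option linter.unusedSectionVars false
set_option linter.unusedVariables false
set_option linter.unusedSimpArgs false
set_option linter.style.haveILetI false

/-!
# Sylow 2-subgroups of `GU₂(q)`, `q ≡ 1 (mod 4)`: quasi-dihedral (helper9)
-/

namespace Cfsg.Agent.Lib.Helper9.Syl2

open Matrix Cfsg Cfsg.Agent.Lib.Helper6 Cfsg.Agent.Lib.Helper9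

variable {F : Type*} [Field F] [Fintype F] {q : ℕ}

theorem two_ne_zero_of_odd (hF : Fintype.card F = q ^ 2) (hq : q % 2 = 1) : (2 : F) ≠ 0 := by
  apply Ring.two_ne_zero
  intro h
  rw [FiniteField.even_card_iff_char_two, hF] at h
  have : q ^ 2 % 2 = 1 := by rw [Nat.pow_mod, hq]
  omega

theorem exists_norm_neg_one (hF : Fintype.card F = q ^ 2) (hq : q % 2 = 1) :
    ∃ β : F, β ^ (q + 1) = -1 := by
  have hodd : Odd q := Nat.odd_iff.mpr hq
  have h1 := Cfsg.Agent.Lib.Helper6.card_norm_fiber hF (-1 : F) (neg_ne_zero.mpr one_ne_zero)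
    hodd.neg_one_pow
  have hne : Nonempty {t : F // t ^ (q + 1) = -1} := by
    by_contra hemp
    rw [not_nonempty_iff] at hemp
    rw [Nat.card_of_isEmpty] at h1
    omega
  obtain ⟨t, ht⟩ := hne
  exact ⟨t, ht⟩

/-- the base change matrix -/
noncomputable def Tg (β : F) (hβ : β ≠ 0) (h2 : (2 : F) ≠ 0) : GL (Fin 2) F :=
  Matrix.GeneralLinearGroup.mkOfDetNeZero !![1, 1; β, -β] (by
    rw [Matrix.det_fin_two_of]
    have : 1 * -β - 1 * β = -(2 * β) := by ring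
    rw [this]
    exact neg_ne_zero.mpr (mul_ne_zero h2 hβ))

theorem Tg_coe (β : F) (hβ : β ≠ 0) (h2 : (2 : F) ≠ 0) :
    ((Tg β hβ h2 : GL (Fin 2) F) : Matrix (Fin 2) (Fin 2) F) = !![1, 1; β, -β] := rfl

/-- `diag(1,-1) T = T swap` -/
theorem dg_mul_Tg (β : F) (hβ : β ≠ 0) (h2 : (2 : F) ≠ 0) :
    dg ((1 : Fˣ), (-1 : Fˣ)) * Tg β hβ h2 = Tg β hβ h2 * swapGL := by
  apply Units.ext
  rw [Units.val_mul, Units.val_mul, dg_coe, Tg_coe, swapGL_coe]
  ext i j
  fin_cases i <;> fin_cases j <;> simp [Matrix.mul_fin_two]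

theorem Tg_herm (hF : Fintype.card F = q ^ 2) (β : F) (hβ : β ≠ 0) (h2 : (2 : F) ≠ 0)
    (hβq : β ^ (q + 1) = -1) :
    ((Tg β hβ h2 : GL (Fin 2) F) : Matrix (Fin 2) (Fin 2) F)ᵀ *
      ((Tg β hβ h2 : GL (Fin 2) F) : Matrix (Fin 2) (Fin 2) F).map (conjQ hF) = !![0, 2; 2, 0] := by
  have hodd : Odd q := by
    by_contra hev
    rw [Nat.not_odd_iff_even] at hev
    have h3 : (β ^ (q + 1)) ^ q = β ^ (q + 1) := by
      rw [← pow_mul, mul_comm, pow_mul]
      have : (β ^ q) ^ (q + 1) = (β ^ q) ^ q * β ^ q := pow_succ _ _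
      rw [this, ← pow_mul, ← pow_two, ← hF, FiniteField.pow_card, mul_comm, ← pow_succ]
    rw [hβq, hev.neg_one_pow] at h3
    have : (2 : F) = 0 := by
      calc (2 : F) = 1 - (-1) := by ring
        _ = 0 := by rw [← h3]; ring
    exact h2 this
  rw [Tg_coe, herm_check, one_pow, neg_pow, hodd.neg_one_pow]
  have e1 : β * β ^ q = -1 := by rw [← pow_succ']; exact hβq
  have e2 : -β * (-1 * β ^ q) = -1 := by
    have : -β * (-1 * β ^ q) = β * β ^ q := by ring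
    rw [this, e1]
  rw [e1, e2]
  have e3 : β * (-1 * β ^ q) = 1 := by
    have : β * (-1 * β ^ q) = -(β * β ^ q) := by ring
    rw [this, e1, neg_neg]
  have e4 : -β * β ^ q = 1 := by
    have : -β * β ^ q = -(β * β ^ q) := by ring
    rw [this, e1, neg_neg]
  rw [e3, e4]
  ext i j
  fin_cases i <;> fin_cases j <;> simp <;> norm_num

theorem dg_herm (hF : Fintype.card F = q ^ 2) (a b : Fˣ) (hab : (a : F) * (b : F) ^ q = 1)
    (hba : (b : F) * (a : F) ^ q = 1) :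
    ((dg (a, b) : GL (Fin 2) F) : Matrix (Fin 2) (Fin 2) F)ᵀ * !![0, 2; 2, 0] *
      ((dg (a, b) : GL (Fin 2) F) : Matrix (Fin 2) (Fin 2) F).map (conjQ hF) = !![0, 2; 2, 0] := by
  rw [dg_coe]
  have hq0 : q ≠ 0 := by have := two_le_q hF; omega
  ext i j
  fin_cases i <;> fin_cases j
  · simp [Matrix.mul_apply, Fin.sum_univ_two, conjQ_apply, hq0]
  · simp [Matrix.mul_apply, Fin.sum_univ_two, conjQ_apply, hq0]
    linear_combination (2 : F) * hab
  · simp [Matrix.mul_apply, Fin.sum_univ_two, conjQ_apply, hq0]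
    linear_combination (2 : F) * hba
  · simp [Matrix.mul_apply, Fin.sum_univ_two, conjQ_apply, hq0]

/-- conjugates of suitable diagonal matrices are unitary -/
theorem conj_dg_mem_GU2 (hF : Fintype.card F = q ^ 2) (β : F) (hβ : β ≠ 0) (h2 : (2 : F) ≠ 0)
    (hβq : β ^ (q + 1) = -1) (a b : Fˣ) (hab : (a : F) * (b : F) ^ q = 1)
    (hba : (b : F) * (a : F) ^ q = 1) :
    Tg β hβ h2 * dg (a, b) * (Tg β hβ h2)⁻¹ ∈ GU2 F q := by
  rw [mem_GU2_iff hF]
  set Tm := ((Tg β hβ h2 : GL (Fin 2) F) : Matrix (Fin 2) (Fin 2) F) with hTm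
  set Ti := (((Tg β hβ h2)⁻¹ : GL (Fin 2) F) : Matrix (Fin 2) (Fin 2) F) with hTi
  set D := ((dg (a, b) : GL (Fin 2) F) : Matrix (Fin 2) (Fin 2) F) with hD
  have hTT : Tm * Ti = 1 := by
    rw [hTm, hTi, ← Units.val_mul, mul_inv_cancel, Units.val_one]
  have hS := Tg_herm hF β hβ h2 hβq
  have hDS := dg_herm hF a b hab hba
  rw [← hTm] at hS
  rw [← hD] at hDS
  rw [Units.val_mul, Units.val_mul, ← hTm, ← hTi, ← hD]
  rw [Matrix.map_mul, Matrix.map_mul, Matrix.transpose_mul, Matrix.transpose_mul]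
  calc Tiᵀ * (Dᵀ * Tmᵀ) * (Tm.map (conjQ hF) * D.map (conjQ hF) * Ti.map (conjQ hF))
      = Tiᵀ * (Dᵀ * (Tmᵀ * Tm.map (conjQ hF)) * D.map (conjQ hF)) * Ti.map (conjQ hF) := by
        simp only [Matrix.mul_assoc]
    _ = Tiᵀ * (Tmᵀ * Tm.map (conjQ hF)) * Ti.map (conjQ hF) := by rw [hS, hDS]
    _ = (Tm * Ti)ᵀ * (Tm * Ti).map (conjQ hF) := by
        rw [Matrix.map_mul, Matrix.transpose_mul]
        simp only [Matrix.mul_assoc]
    _ = 1 := by
        rw [hTT, Matrix.transpose_one, Matrix.map_one _ (map_zero _) (map_one _), Matrix.mul_one]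

/-- **`GU₂(q)`, `q ≡ 1 (mod 4)`: quasi-dihedral.** -/
theorem gu2_quasiDihedral (hF : Fintype.card F = q ^ 2) (h : q % 4 = 1) (P : Sylow 2 (GU2 F q)) :
    Cfsg.IsQuasiDihedral (P : Subgroup (GU2 F q)) := by
  classical
  have hq1 := q_gt_one hF
  have hq2 : q % 2 = 1 := by omega
  set m := (q - 1).factorization 2 with hm
  have hm2 : 2 ≤ m := two_le_fact2_of_mod4 (by omega) (by omega)
  have hcard : (Nat.card (GU2 F q)).factorization 2 = (m + 1) + 1 := by
    rw [card_GU2 hF, fact2_card_GU2 hq2 hq1, fact2_eq_one_of_mod4 (n := q + 1) (by omega)]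
    omega
  have h2 := two_ne_zero_of_odd hF hq2
  obtain ⟨β, hβq⟩ := exists_norm_neg_one hF hq2
  have hβ : β ≠ 0 := by
    rintro rfl
    rw [zero_pow (by omega)] at hβq
    exact one_ne_zero (neg_eq_zero.mp hβq.symm)
  -- an element of order 2^(m+1)
  have hdvd : 2 ^ (m + 1) ∣ Nat.card Fˣ := by
    rw [card_units_sq hF]
    obtain ⟨r, hr⟩ : ∃ r, q = r + 1 := ⟨q - 1, by omega⟩
    have e1 : (r + 1) ^ 2 - 1 = r * (r + 2) := by
      have : (r + 1) ^ 2 = r * (r + 2) + 1 := by ring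
      omega
    have h1 : 2 ^ m ∣ r := by
      have := Nat.ordProj_dvd (q - 1) 2
      rw [← hm, hr, Nat.add_sub_cancel] at this
      exact this
    have h3 : 2 ∣ r + 2 := by omega
    rw [hr, e1, pow_succ]
    exact Nat.mul_dvd_mul h1 h3
  obtain ⟨a, ha⟩ := exists_orderOf_eq_of_dvd hdvd
  have hapow : a ^ 2 ^ (m + 1) = 1 := by rw [← ha]; exact pow_orderOf_eq_one a
  have haq2 : a ^ (q * q) = a := by
    have h3 : a ^ Nat.card Fˣ = 1 := pow_card_eq_one'
    rw [card_units_sq hF] at h3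
    have h4 : q * q = (q ^ 2 - 1) + 1 := by
      have : 1 ≤ q ^ 2 := Nat.one_le_pow _ _ (by omega)
      rw [pow_two] at this ⊢
      omega
    rw [h4, pow_succ, h3, one_mul]
  set b : Fˣ := (a ^ q)⁻¹ with hb
  have hbpow : b ^ 2 ^ (m + 1) = 1 := by
    rw [hb, inv_pow, ← pow_mul, mul_comm, pow_mul, hapow, one_pow, inv_one]
  have hbq : (b ^ q)⁻¹ = a := by
    rw [hb, inv_pow, inv_inv, ← pow_mul, haq2]
  obtain ⟨j, hj⟩ := dvd_of_mod4_eq_1 (q := q) h hq1
  rw [← hm] at hj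
  have hpos : 1 ≤ 2 ^ m := Nat.one_le_two_pow
  have hkq : (2 ^ m - 1) + q = 2 ^ (m + 1) * (j + 1) := by
    have e0 : 2 ^ (m + 1) = 2 * 2 ^ m := by rw [pow_succ]; ring
    rw [e0] at hj ⊢
    obtain ⟨p, hp⟩ : ∃ p, 2 ^ m = p + 1 := ⟨2 ^ m - 1, by omega⟩
    rw [hp] at hj ⊢
    rw [Nat.add_sub_cancel]
    nth_rewrite 1 [hj]
    ring
  have hclaim : ∀ c : Fˣ, c ^ 2 ^ (m + 1) = 1 → c ^ (2 ^ m - 1) = (c ^ q)⁻¹ := by
    intro c hc
    rw [eq_inv_iff_mul_eq_one, ← pow_add, hkq, pow_mul, hc, one_pow]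
  have hak : a ^ (2 ^ m - 1) = b := hclaim a hapow
  have hbk : b ^ (2 ^ m - 1) = a := (hclaim b hbpow).trans hbq
  -- coefficients relations in `F`
  have hab : (a : F) * (b : F) ^ q = 1 := by
    have : a * b ^ q = 1 := by
      rw [← hbq]; exact inv_mul_cancel _
    have h3 := congrArg (fun u : Fˣ => (u : F)) this
    simpa using h3
  have hba : (b : F) * (a : F) ^ q = 1 := by
    have : b * a ^ q = 1 := by rw [hb]; exact inv_mul_cancel _
    have h3 := congrArg (fun u : Fˣ => (u : F)) this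
    simpa using h3
  -- the elements
  set T := Tg β hβ h2 with hT
  set X : GL (Fin 2) F := T * dg (a, b) * T⁻¹ with hX
  set Y : GL (Fin 2) F := dg ((1 : Fˣ), (-1 : Fˣ)) with hY
  have hXmem : X ∈ GU2 F q := conj_dg_mem_GU2 hF β hβ h2 hβq a b hab hba
  have hYmem : Y ∈ GU2 F q := by
    apply dg_mem_GU2 hF
    · simp
    · have hev : Even (q + 1) := by
        rw [Nat.even_iff]; omega
      simp [hev.neg_one_pow]
  have hYY : Y * Y = 1 := by
    rw [hY, ← map_mul]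
    have : (((1 : Fˣ), (-1 : Fˣ)) : Fˣ × Fˣ) * ((1 : Fˣ), (-1 : Fˣ)) = 1 := by
      apply Prod.ext <;> simp
    rw [this, map_one]
  have hY1 : Y ≠ 1 := by
    intro h1
    have h3 := dg_injective (h1.trans (map_one dg).symm)
    have h4 : ((-1 : Fˣ) : F) = 1 := by
      have := congrArg (fun p : Fˣ × Fˣ => ((p.2 : Fˣ) : F)) h3
      simpa using this
    apply h2
    have : (-1 : F) = 1 := by simpa using h4
    calc (2 : F) = 1 - (-1) := by ring
      _ = 0 := by rw [this]; ring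
  have hYo : orderOf Y = 2 := orderOf_eq_prime (by rw [pow_two]; exact hYY) hY1
  have hYinv : Y⁻¹ = Y := inv_eq_of_mul_eq_one_left hYY
  have hob : orderOf b = 2 ^ (m + 1) := by
    rw [hb, orderOf_inv]
    rw [Nat.Coprime.orderOf_pow, ha]
    rw [ha]
    apply Nat.Coprime.pow_left
    rw [Nat.coprime_two_left]
    exact Nat.odd_iff.mpr hq2
  have hXo : orderOf X = 2 ^ (m + 1) := by
    rw [hX, orderOf_conj_eq, orderOf_injective dg dg_injective, Prod.orderOf]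
    simp only
    rw [ha, hob, Nat.lcm_self]
  have hYT : Y * T = T * swapGL := dg_mul_Tg β hβ h2
  have hrel : Y * X * Y⁻¹ = X ^ (2 ^ (m + 1 - 1) - 1) := by
    rw [Nat.add_sub_cancel, hX, conj_pow, ← map_pow, Prod.pow_mk, hak, hbk, hYinv]
    have hTY : T⁻¹ * Y = swapGL * T⁻¹ := by
      have h3 : Y = T * swapGL * T⁻¹ := by rw [← hYT]; group
      rw [h3]; group
    calc Y * (T * dg (a, b) * T⁻¹) * Y
        = (Y * T) * dg (a, b) * (T⁻¹ * Y) := by group
      _ = T * (swapGL * dg (a, b) * swapGL⁻¹) * T⁻¹ := by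
        rw [hYT, hTY, swapGL_inv]; group
      _ = T * dg (b, a) * T⁻¹ := by rw [swap_conj_dg]
  refine isQuasiDihedral_sylow P (m + 1) (by omega) hcard ⟨X, hXmem⟩ ⟨Y, hYmem⟩ ?_ ?_ ?_
  · rw [Subgroup.orderOf_mk, hXo]
  · rw [Subgroup.orderOf_mk, hYo]
  · exact Subtype.ext hrel

end Cfsg.Agent.Lib.Helper9.Syl2
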